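import Groth.Agent.CurveVBLib.Basic
import Groth.Agent.CurveH0Lib.VeryAmple
import Groth.Agent.AmpleQSecLib.Main
import Groth.Agent.CurveSDLib.Main
import Groth.Agent.S1688

/-!
# Removing the base points of finitely many sections on a regular curve
-/

set_option autoImplicit false
set_option linter.style.haveILetI false
universe u

open CategoryTheory CategoryTheory.Limits AlgebraicGeometry TopologicalSpace Opposite
open DevissLib CurvLib QCohLib

noncomputable section

namespace LinSerMapLib

variable {X : Scheme.{u}}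

theorem eq_unitHom {M : X.Modules} (f : Coh.structureModule X ⟶ M) :
    f = QCohLib.unitHom M (f.app ⊤ (1 : Γ(X, ⊤))) := by
  apply Scheme.Modules.hom_ext
  intro V
  refine ConcreteCategory.hom_ext _ _ fun (r : Γ(X, V)) => ?_
  refine Eq.trans ?_ (QCohLib.unitHom_app M (f.app ⊤ (1 : Γ(X, ⊤))) V r).symm
  refine Eq.trans ?_ ((congrArg (fun z : Γ(M, V) => r • z) (QCohLib.app_map f (homOfLE (le_top : V ≤ ⊤)) (1 : Γ(X, ⊤)))))
  refine Eq.trans ?_ (QCohLib.app_smul f V r _)
  refine congrArg (f.app V) ?_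
  exact ((congrArg (fun z : Γ(X, V) => r * z) (map_one (X.presheaf.map (homOfLE (le_top : V ≤ ⊤)).op).hom)).trans
    (mul_one r)).symm

variable [IsIntegral X] [IsLocallyNoetherian X]

/-- Sections, not all zero, of an invertible module on a regular curve generate an invertible submodule. -/
theorem exists_base_free (hreg : ∀ x : X, IsRegularLocalRing (X.presheaf.stalk x))
    (hdim : topologicalKrullDim X ≤ 1) {L : X.Modules} (hL : PicF.IsInvertible L) {m : ℕ}
    (s : Fin (m + 1) → Γ(L, ⊤)) (hs : ∃ i, s i ≠ 0) :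
    ∃ (L' : X.Modules) (hL' : PicF.IsInvertible L') (ι : L' ⟶ L) (v : Fin (m + 1) → Γ(L', ⊤)),
      Mono ι ∧ (∀ i, ι.app ⊤ (v i) = s i) ∧ ∀ y : X, ∃ i, y ∈ TwistLib.genSet hL' (v i) := by
  classical
  let O : Fin (m + 1) → X.Modules := fun _ => Coh.structureModule X
  let Φ : (⨁ O) ⟶ L := biproduct.desc fun i => QCohLib.unitHom L (s i)
  let G := Abelian.image Φ
  let q : (⨁ O) ⟶ G := Abelian.factorThruImage Φ
  let ι : G ⟶ L := Abelian.image.ι Φ
  have hqι : q ≫ ι = Φ := Abelian.image.fac Φ
  let v : Fin (m + 1) → Γ(G, ⊤) := fun i => (biproduct.ι O i ≫ q).app ⊤ (1 : Γ(X, ⊤))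
  have hv : ∀ i, ι.app ⊤ (v i) = s i := fun i => by
    show ((biproduct.ι O i ≫ q) ≫ ι).app ⊤ (1 : Γ(X, ⊤)) = s i
    rw [Category.assoc, hqι, biproduct.ι_desc]
    refine (QCohLib.unitHom_app L (s i) ⊤ 1).trans ?_
    rw [one_smul]
    exact QCohLib.toSections_top L (s i)
  have hO : Coh.IsCoh (⨁ O) :=
    CurveSDLib.isCoh_biproduct fun _ => CurvLib.isCoh_of_isInvertible CurvLib.isInvertible_structureModule
  have hLc := CurvLib.isCoh_of_isInvertible hL
  have hG : Coh.IsCoh G := DevissLib.isCoh_image Φ hO hLc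
  have hlf : FlatMod.IsFinLocFree G := (Groth.Agent.S1688.result X hreg hdim G hG).mp
    fun x => CurveVBLib.torsionFree_of_mono (CurvLib.locFree_of_isInvertible hL) ι x
  have hr := CurveVBLib.rank_genRank hlf
  letI : Field (X.presheaf.stalk (genericPoint X)) := (inferInstance : Field X.functionField)
  have hinj : Function.Injective ((St (genericPoint X)).map ι).hom :=
    (ModuleCat.mono_iff_injective _).mp inferInstance
  have h1 : CurvLib.genRank G ≤ 1 := by
    obtain ⟨e⟩ := CurvLib.nonempty_stalk_pi_of_locFree (CurvLib.locFree_of_isInvertible hL) (genericPoint X)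
    haveI : Module.Finite (X.presheaf.stalk (genericPoint X)) ((St (genericPoint X)).obj L) :=
      Module.Finite.equiv e.symm
    exact (LinearMap.finrank_le_finrank_of_injective hinj).trans
      (CurveVBLib.genRank_eq (CurvLib.locFree_of_isInvertible hL)).le
  have h2 : CurvLib.genRank G ≠ 0 := fun h0 => by
    obtain ⟨i, hi⟩ := hs
    have htf := fun x => CurveVBLib.torsionFree_of_mono (CurvLib.locFree_of_isInvertible hL) ι x
    rw [h0] at hr
    have hz : ∀ x : X, Subsingleton (G.presheaf.stalk x) := fun x => by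
      obtain ⟨e⟩ := CurvLib.nonempty_stalk_pi_of_locFree hr x
      exact e.toEquiv.subsingleton
    apply hi
    rw [← hv i]
    have hv0 : v i = 0 := TopCat.Presheaf.section_ext (⟨G.presheaf, G.isSheaf⟩ : TopCat.Sheaf Ab X) ⊤ _ _
      fun x hx => @Subsingleton.elim _ (hz x) _ _
    rw [hv0]
    exact map_zero _
  have hG1 : PicF.IsInvertible G := AmpleQSecLib.isInvertible_of_rank_one
    ((show CurvLib.genRank G = 1 by omega) ▸ hr)
  refine ⟨G, hG1, ι, v, inferInstance, hv, fun y => ?_⟩
  refine TwistLib.exists_genAt_of_generatedBy hG1 v y ?_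
  rw [eq_top_iff]
  rintro a -
  obtain ⟨b, rfl⟩ : ∃ b, ((St y).map q).hom b = a :=
    (ModuleCat.epi_iff_surjective ((St y).map q)).mp inferInstance a
  have hb : b = ((St y).map (𝟙 (⨁ O))).hom b := by rw [CategoryTheory.Functor.map_id]; rfl
  rw [hb, ← biproduct.total, Functor.map_sum, ModuleCat.hom_sum, LinearMap.sum_apply, map_sum]
  refine Submodule.sum_mem _ fun i _ => ?_
  rw [Functor.map_comp]
  show ((St y).map q).hom (((St y).map (biproduct.ι O i)).hom (((St y).map (biproduct.π O i)).hom b)) ∈ _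
  obtain ⟨V, hyV, r, hr'⟩ := DevissLib.exists_gm_eq (Coh.structureModule X) y
    (((St y).map (biproduct.π O i)).hom b)
  rw [← hr']
  have h3 : ((St y).map q).hom (((St y).map (biproduct.ι O i)).hom (gm (Coh.structureModule X) y hyV r)) =
      ((St y).map (biproduct.ι O i ≫ q)).hom (gm (Coh.structureModule X) y hyV r) := by
    rw [Functor.map_comp]; rfl
  have h4 : ((St y).map q).hom (((St y).map (biproduct.ι O i)).hom (gm (Coh.structureModule X) y hyV r)) =
      X.presheaf.germ V y hyV r • gm G y (U := ⊤) trivial (v i) := by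
    refine h3.trans ((DevissLib.gm_app _ y hyV r).trans ?_)
    refine (congrArg (gm G y hyV) ((congrArg (fun f : Coh.structureModule X ⟶ G => f.app V r)
      (eq_unitHom (biproduct.ι O i ≫ q))).trans (QCohLib.unitHom_app G (v i) V r))).trans ?_
    refine (DevissLib.gm_smul G y hyV r _).trans (congrArg _ ?_)
    exact DevissLib.gm_map G le_top y hyV _
  rw [h4]
  refine @Submodule.smul_mem (X.presheaf.stalk y) (G.presheaf.stalk y) _ _ _ _ _ _ ?_
  exact Submodule.subset_span ⟨i, rfl⟩

end LinSerMapLib
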