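import Groth.Agent.LinSerMapLib.Basic
import Groth.Agent.CurveFFLib.HyperPowers

/-!
# The degree of the map defined by a pencil
-/

set_option autoImplicit false
set_option linter.style.haveILetI false
universe u

open CategoryTheory CategoryTheory.Limits AlgebraicGeometry TopologicalSpace Opposite

noncomputable section

namespace LinSerMapLib

theorem residueDegree_generic {X Y : Scheme.{u}} [IsIntegral X] [IsIntegral Y] (f : X ⟶ Y)
    (hξ : f (genericPoint X) = genericPoint Y) :
    letI := (f.stalkMap (genericPoint X)).hom.toAlgebra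
    Module.finrank (Y.presheaf.stalk (f (genericPoint X))) X.functionField = f.residueDegree (genericPoint X) := by
  letI := (f.stalkMap (genericPoint X)).hom.toAlgebra
  have hA : IsField (Y.presheaf.stalk (f (genericPoint X))) := by
    rw [hξ]; exact Field.toIsField Y.functionField
  have hbY : Function.Bijective (Y.residue (f (genericPoint X))).hom :=
    ⟨by letI := hA.toField; exact (Y.residue (f (genericPoint X))).hom.injective, Y.residue_surjective _⟩
  have hbX : Function.Bijective (X.residue (genericPoint X)).hom :=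
    ⟨by letI : Field (X.presheaf.stalk (genericPoint X)) := (inferInstance : Field X.functionField)
        exact (X.residue (genericPoint X)).hom.injective, X.residue_surjective _⟩
  letI := (f.residueFieldMap (genericPoint X)).hom.toAlgebra
  show _ = Module.finrank _ _
  refine Algebra.finrank_eq_of_equiv_equiv (RingEquiv.ofBijective _ hbY) (RingEquiv.ofBijective _ hbX) ?_
  exact RingHom.ext fun a => congrArg (fun g : Y.presheaf.stalk (f (genericPoint X)) ⟶ X.residueField (genericPoint X) => g.hom a) (Scheme.residue_residueFieldMap f (genericPoint X))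

variable {k : Type u} [Field k] {X : Scheme.{u}} [X.Over (Spec (CommRingCat.of k))] [IsIntegral X]
  [IsProper (X ↘ Spec (CommRingCat.of k))]

/-- A map to the line contracting everything pulls back `O(1)` to a module with proportional sections. -/
theorem proportional_of_constant (h0 : Module.finrank k (Coh.HH X (Coh.structureModule X) 0) = 1)
    {n : ℕ} (φ : X ⟶ CohB1.ProjSpace n k) {p : CohB1.ProjSpace n k} (hp : Set.range φ ⊆ {p}) :
    ∃ v : Γ((Scheme.Modules.pullback φ).obj (Twist.twistProjSpace n k 1), ⊤),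
      ∀ t : Γ((Scheme.Modules.pullback φ).obj (Twist.twistProjSpace n k 1), ⊤),
        ∃ c : k, t = GenusZeroLib.ρ k (X := X) c • v := by
  let P := (Scheme.Modules.pullback φ).obj (Twist.twistProjSpace n k 1)
  obtain ⟨x₀⟩ : Nonempty X := inferInstance
  have hφx : ∀ x : X, φ x = φ x₀ := fun x =>
    (Set.mem_singleton_iff.mp (hp ⟨x, rfl⟩)).trans (Set.mem_singleton_iff.mp (hp ⟨x₀, rfl⟩)).symm
  classical
  obtain ⟨j, hj⟩ := TwistLib.exists_genAt_coord n k φ x₀
  let v : Γ(P, ⊤) := ProjUP.pullSec φ (Twist.twistProjSpace n k 1) (ProjUP.coord n k j)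
  let b := Pi.basisFun k (Fin (n + 1))
  let ι : (Fin (n + 1) → k) →ₗ[k] MvPolynomial (Fin (n + 1)) k := Module.Basis.constr b k MvPolynomial.X
  have hι : ∀ m, ι m ∈ CohB1.polyGrading n k 1 := by
    intro m
    rw [Module.Basis.constr_apply_fintype]
    exact sum_mem fun i _ => Submodule.smul_mem _ _ (MvPolynomial.isHomogeneous_X k i)
  have hsym := SymmetricAlgebra.IsSymmetricAlgebra.mvPolynomial (Fin (n + 1)) b
  have e : (⟨ι (b j), hι (b j)⟩ : CohB1.polyGrading n k 1) =
      ⟨MvPolynomial.X j, MvPolynomial.isHomogeneous_X k j⟩ := Subtype.ext (b.constr_basis k _ j)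
  have key : ∀ x : X, AmpleLib.GenAt P v (show x ∈ (⊤ : X.Opens) from trivial) ↔
      φ x ∈ Proj.basicOpen (CohB1.polyGrading n k) (ι (b j)) := fun x => by
    have h := TwistLib.SymUP.genAt_pull_iff (CohB1.polyGrading n k) ι hι hsym φ (b j) x
    rw [e] at h
    exact h
  have hgen : ∀ (x : X) (hx : x ∈ (⊤ : X.Opens)), AmpleLib.GenAt P v hx := fun x _ =>
    (key x).mpr (by rw [hφx x]; exact (key x₀).mp hj)
  have hon : AmpleLib.GenOn P v := TwistLib.genOn_of_genAt hgen
  refine ⟨v, fun t => ?_⟩
  obtain ⟨r, hr⟩ := (hon ⊤ le_rfl).2 t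
  letI := GenusZeroLib.kmod k (Coh.structureModule X)
  have hfr : Module.finrank k Γ(Coh.structureModule X, ⊤) = 1 :=
    (GenusZeroLib.e0k k (Coh.structureModule X)).finrank_eq.symm.trans h0
  haveI : Nontrivial Γ(X, ⊤) := inferInstance
  have h1 : (1 : Γ(X, ⊤)) ≠ 0 := one_ne_zero
  obtain ⟨c, hc⟩ := (finrank_eq_one_iff_of_nonzero' (K := k) (V := Γ(Coh.structureModule X, ⊤))
    (1 : Γ(X, ⊤)) h1).mp hfr r
  refine ⟨c, ?_⟩
  rw [← hr]
  dsimp only
  rw [AmpleLib.res_refl]
  refine congrArg (fun z : Γ(X, ⊤) => z • v) ?_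
  rw [← hc]
  exact mul_one (GenusZeroLib.ρ k (X := X) c)

end LinSerMapLib
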